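import Groth.Prelude.Def_ConstAct2
import Groth.Prelude.Def_StCoarse
import Groth.Agent.L09.Artin.Atlas.Quot
import Groth.Agent.L24.CoarseQuot.Props
import Groth.Agent.L24.Moduli.ChartDesc
import Groth.Agent.L24.QuotMor.Cart
import Groth.Agent.L11.ThetaAff.Inst
import Mathlib.RingTheory.Invariant.Basic

/-!
# The quotient of an affine scheme by a finite group as the quotient of the chart groupoid
-/

set_option autoImplicit false
set_option linter.style.haveILetI false
set_option backward.isDefEq.respectTransparency false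
set_option backward.isDefEq.respectTransparency.types false

universe u

open CategoryTheory CategoryTheory.Limits MonoidalCategory CartesianMonoidalCategory AlgebraicGeometry Opposite
open scoped TensorProduct
open AlgSp (yon)

noncomputable section

namespace Groth.L11.ConstQuot

open Groth.L24.St Groth.L24.Tors

variable (R : Type u) [CommRing R] (A : Type u) [CommRing A] [Algebra R A]
  (G : Type u) [Group G] [Fintype G] [DecidableEq G] [MulSemiringAction G A] [SMulCommClass G R A]

local notation "H" => ConstGrp.F R G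

/-- The constant group scheme is finite. -/
theorem isFinite_GR : IsFinite (ConstAct.GR R G).hom := by
  change IsFinite (Spec.map (CommRingCat.ofHom (algebraMap R H)))
  rw [IsFinite.SpecMap_iff]
  exact RingHom.finite_algebraMap.mpr (Module.Finite.pi)

theorem flat_GR : Flat (ConstAct.GR R G).hom := by
  change Flat (Spec.map (CommRingCat.ofHom (algebraMap R H)))
  rw [HasRingHomProperty.Spec_iff (P := @Flat)]
  exact RingHom.flat_algebraMap_iff.mpr (inferInstanceAs (Module.Flat R (G → R)))

theorem lfp_GR [IsNoetherianRing R] : LocallyOfFinitePresentation (ConstAct.GR R G).hom := by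
  change LocallyOfFinitePresentation (Spec.map (CommRingCat.ofHom (algebraMap R H)))
  rw [HasRingHomProperty.Spec_iff (P := @LocallyOfFinitePresentation)]
  haveI : Module.Finite R H := Module.Finite.pi
  exact RingHom.finitePresentation_algebraMap.mpr (Algebra.FinitePresentation.of_finiteType.mp inferInstance)

theorem act_quot :
    (ConstAct.gaction R A G).act ≫ ConstAct.quot R A G = snd (ConstAct.GR R G) (ConstAct.X R A) ≫ ConstAct.quot R A G := by
  haveI := Groth.L11.ThetaAff.isIso_univPair (R := R) (B := A) (A := H)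
  rw [← cancel_epi (Groth.L11.ThetaAff.univPair R A H)]
  have hq : ConstAct.quot R A G = CoactBr.pt (ConstAct.inv R A G).val := rfl
  letI := ConstAct.comod R A G
  haveI := ConstAct.isCoactAlg R A G
  rw [hq, ConstAct.gaction_eq]
  change (lift _ _ ≫ _ ≫ _) = _
  rw [← Category.assoc, CoactBr.lift_pt_action_act]
  conv_rhs => rw [← Category.assoc, show Groth.L11.ThetaAff.univPair R A H ≫ snd _ _ = _ from lift_snd _ _]
  rw [← CoactBr.pt_comp, ← CoactBr.pt_comp]
  congr 1
  apply AlgHom.ext
  intro a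
  let iR : A →ₐ[R] H ⊗[R] A := Algebra.TensorProduct.includeRight
  let θ : H →ₐ[R] H ⊗[R] A :=
    (Algebra.TensorProduct.includeLeft (S := R) : H →ₐ[R] H ⊗[R] A).comp (HopfAlgebra.antipodeAlgHom R H)
  change (Algebra.TensorProduct.lift iR θ fun _ _ => .all _ _) (ConstAct.coactLin R A G a) = iR a
  rw [ConstAct.coactLin_apply, map_sum]
  simp only [Algebra.TensorProduct.lift_tmul]
  rw [Finset.sum_congr rfl fun g _ => show iR (g • (a : A)) * θ (ConstGrp.e R g) = iR a * θ (ConstGrp.e R g) by rw [a.2 g],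
    ← Finset.mul_sum, ← map_sum, ConstGrp.sum_e, map_one, mul_one]

/-- The canonical chart. -/
abbrev chartX : FibCat.overCat (ConstAct.X R A) ⥤ᵇ ConstAct.quotSt R A G Scheme.fppfPrecoverage :=
  BasedFunctor.comp (AlgSt.ofOverCat (ConstAct.X R A))
    (AlgSt.quotMap Scheme.fppfPrecoverage (ConstAct.GR R G) (ConstAct.gaction R A G))

theorem hg : FibCat.IsFibGrpd (ConstAct.quotSt R A G Scheme.fppfPrecoverage).p := by
  haveI := flat_GR R G
  haveI : IsAffineHom (ConstAct.GR R G).hom := (isFinite_GR R G).toIsAffineHom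
  exact (isStack_quotSt_fppf (aX := ConstAct.gaction R A G)).1

section Noeth

variable [IsNoetherianRing R]

theorem chart_props :
    AlgSt.RepByAlgSpWith AlgSp.IsFiniteMor (chartX R A G) ∧
      AlgSt.RepByAlgSpWith (AlgSp.LocP @Flat) (chartX R A G) ∧
      AlgSt.RepByAlgSpWith (AlgSp.LocP @LocallyOfFinitePresentation) (chartX R A G) ∧
      AlgSt.RepByAlgSpWith AlgSp.IsSurjectiveMor (chartX R A G) ∧
      AlgSt.IsAlgStack Scheme.fppfPrecoverage (ConstAct.quotSt R A G Scheme.fppfPrecoverage) := by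
  haveI := isFinite_GR R G
  haveI := flat_GR R G
  haveI := lfp_GR R G
  have hB := AlgSp.IsAlgSpace.yon_obj (Over.mk (𝟙 (Spec (CommRingCat.of R))))
  let aX := ConstAct.gaction R A G
  have tr : ∀ {P : MorphismProperty (AlgSp.Sp (Spec (CommRingCat.of R)))},
      AlgSt.RepByAlgSpWith P
        (AlgSt.spQuotMap Scheme.fppfPrecoverage ((schSp _).obj (ConstAct.GR R G)) (schAction aX)) →
        AlgSt.RepByAlgSpWith P (chartX R A G) := fun h => (repWith_quotMap_iff isEquivOver_toSpQuot_fppf _).2 h
  refine ⟨tr ?_, tr (spQuotMap_locP (schAction aX) hB (isAlgSpace_schSp _) Groth.L23.etLocal_flat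
      (locP_schSp_hom Groth.L23.etLocal_flat inferInstance)),
    tr (spQuotMap_locP (schAction aX) hB (isAlgSpace_schSp _) Groth.L23.etLocal_lfp
      (locP_schSp_hom Groth.L23.etLocal_lfp inferInstance)),
    tr (spQuotMap_surjective (schAction aX) hB (isAlgSpace_schSp _)), Groth.L09.Artin.isAlgStack_quotSt aX⟩
  refine Quot.repByAlgSpWith_trivMap (schAction aX) (AlgSp.IsAlgSpace.yon_obj _) (isAlgSpace_schSp _) _
    Groth.L24.St.pBase_finite ?_ ?_
  · exact fun {_ _} Yi g hY hYi hcov {_} f hX Xi p q hXi sq => Groth.L23.isLocalOnBase_fpqc_finite Yi g hY hYi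
      (Groth.L23.isFpqcCover_of_isFppfCover hY hYi hcov) f hX Xi p q hXi sq
  · exact Groth.L23.isFiniteMor_iff.2
      (Groth.L23.repWith_map (P := @IsFinite) (show IsFinite (ConstAct.GR R G).hom from inferInstance))

theorem hcov : ∀ B : (ConstAct.quotSt R A G Scheme.fppfPrecoverage).obj,
    Groth.L24.ChartDesc.chartable (chartX R A G) B ∈
      AlgSp.J (Spec (CommRingCat.of R)) ((ConstAct.quotSt R A G Scheme.fppfPrecoverage).p.obj B) :=
  fun B => Groth.L24.ChartDesc.chartable_mem (chartX R A G) (hg R A G) (chart_props R A G).2.1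
    (chart_props R A G).2.2.1 (chart_props R A G).2.2.2.1 B

variable {R A G}
variable (π : ConstAct.quotSt R A G Scheme.fppfPrecoverage ⥤ᵇ AlgSt.ofSch (ConstAct.specInv R A G))
  (hπ : BasedFunctor.comp
      (AlgSt.quotMap Scheme.fppfPrecoverage (ConstAct.GR R G) (ConstAct.gaction R A G)) π =
    AlgSt.ofSpMap ((yon (Spec (CommRingCat.of R))).map (ConstAct.quot R A G)))

include hπ in
theorem rest_π : Groth.L24.ChartDesc.rest (x := chartX R A G) π =
    (yon (Spec (CommRingCat.of R))).map (ConstAct.quot R A G) := by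
  rw [← Groth.L24.QuotMor.homOf_eq_of_comp hπ]
  rfl

omit [IsNoetherianRing R] in
theorem arrow_quot {T : Over (Spec (CommRingCat.of R))} (a : Groth.L24.Multi.Ar (chartX R A G) T)
    (π : ConstAct.quotSt R A G Scheme.fppfPrecoverage ⥤ᵇ AlgSt.ofSch (ConstAct.specInv R A G))
    (hπ : BasedFunctor.comp
        (AlgSt.quotMap Scheme.fppfPrecoverage (ConstAct.GR R G) (ConstAct.gaction R A G)) π =
      AlgSt.ofSpMap ((yon (Spec (CommRingCat.of R))).map (ConstAct.quot R A G))) :
    a.v ≫ ConstAct.quot R A G = a.w ≫ ConstAct.quot R A G := by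
  have hh := Groth.L24.QuotMor.homOf_eq_of_comp hπ
  have key : ∀ u : T ⟶ ConstAct.X R A,
      AlgSt.fibSec π ⟨Groth.L24.Multi.ob (chartX R A G) u, Groth.L24.ChartDesc.w_ob u⟩ =
        ULift.up (u ≫ ConstAct.quot R A G) := fun u =>
    congrArg (fun k => k.hom.app (op T) (ULift.up u)) hh
  have := Groth.L24.ChartDesc.fibSec_lift π (Groth.L24.ChartDesc.w_ob (x := chartX R A G) a.v)
    (Groth.L24.ChartDesc.w_ob a.w) (𝟙 T) a.φ (h := a.over_id)
  rw [op_id, Functor.map_id_apply, key, key] at this
  exact (congrArg ULift.down this).symm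

theorem exists_arrow (g₀ : G) :
    ∃ a : Groth.L24.Multi.Ar (chartX R A G) (ConstAct.X R A),
      a.v = ConstAct.act R A G g₀⁻¹ ∧ a.w = 𝟙 _ := by
  have e := ConstAct.gaction_constPt R A G (K := A) g₀ (AlgHom.id R A)
  rw [CoactBr.pt_id, Category.id_comp] at e
  let i := Groth.L24.QuotMor.transIso (ConstAct.gaction R A G) (ConstAct.act R A G g₀⁻¹) (𝟙 _)
    (CoactBr.pt (ConstAct.constPt R G g₀)) e
  exact ⟨⟨_, _, i.hom, IsHomLift.map (ConstAct.quotSt R A G Scheme.fppfPrecoverage).p i.hom⟩, rfl, rfl⟩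

include hπ in
/-- The canonical map is a uniform categorical moduli space, bijective on geometric points, and a universal
homeomorphism. -/
theorem main : AlgSt.IsUnifCatModuli π ∧ AlgSt.GeomPtBij π ∧ AlgSt.IsUnivHomeo Scheme.fppfPrecoverage π := by
  obtain ⟨hfin, hfl, hlfp, hcs, hst⟩ := chart_props R A G
  obtain ⟨P, h₁, h₂, h₃⟩ := Groth.L24.ChartGrpd.exists_rep (hg R A G) hst.isStack hfin hfl hlfp
  haveI : IsFinite P.grpd.s := h₁
  haveI : Flat P.grpd.s := h₂
  haveI : LocallyOfFinitePresentation P.grpd.s := h₃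
  haveI : IsAffine P.grpd.U := inferInstanceAs (IsAffine (Spec (CommRingCat.of A)))
  haveI : IsAffine P.grpd.R := isAffine_of_isAffineHom P.grpd.s
  obtain ⟨_, _, _⟩ := Groth.Agent.L24.Quot.isFinite_t P.grpd
  have hinv : P.src ≫ ConstAct.quot R A G = P.tgt ≫ ConstAct.quot R A G :=
    arrow_quot (P.η P.R (𝟙 _)) π hπ
  let γ := Scheme.ΓSpecIso (CommRingCat.of A)
  have hmem : ∀ a : ↥(ConstAct.inv R A G), γ.inv (a : A) ∈ P.grpd.invariants := fun a => by
    have h := congrArg (fun f : P.R ⟶ ConstAct.specInv R A G =>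
      f.left.appTop ((Scheme.ΓSpecIso (CommRingCat.of (ConstAct.inv R A G))).inv a)) hinv
    have n : (ConstAct.quot R A G).left.appTop ((Scheme.ΓSpecIso (CommRingCat.of (ConstAct.inv R A G))).inv a) =
        γ.inv (a : A) :=
      (congrArg (fun ψ => (ConcreteCategory.hom ψ) a)
        (Scheme.ΓSpecIso_inv_naturality (CommRingCat.ofHom (ConstAct.inv R A G).val.toRingHom))).symm
    simp only [Over.comp_left, Scheme.Hom.comp_appTop] at h
    rw [ConcreteCategory.comp_apply, ConcreteCategory.comp_apply] at h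
    exact ((congrArg P.src.left.appTop n).symm.trans (h.trans (congrArg P.tgt.left.appTop n)))
  have hmem' : ∀ a : A, γ.inv a ∈ P.grpd.invariants → a ∈ ConstAct.inv R A G := fun a ha g => by
    obtain ⟨ar, hv, hw⟩ := exists_arrow (R := R) (A := A) (G := G) g⁻¹
    let r : ConstAct.X R A ⟶ P.R := (P.η _).symm ar
    have h1 : r ≫ P.src = ConstAct.act R A G g := (P.symm_v ar).trans (by rw [hv, inv_inv])
    have h2 : r ≫ P.tgt = 𝟙 _ := (P.symm_w ar).trans hw
    have h3 := congrArg r.left.appTop (show P.src.left.appTop (γ.inv a) = P.tgt.left.appTop (γ.inv a) from ha)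
    rw [← ConcreteCategory.comp_apply, ← ConcreteCategory.comp_apply, ← Scheme.Hom.comp_appTop,
      ← Scheme.Hom.comp_appTop, ← Over.comp_left, ← Over.comp_left, h1, h2] at h3
    have n : (ConstAct.act R A G g).left.appTop (γ.inv a) = γ.inv (g • a) :=
      (congrArg (fun ψ => (ConcreteCategory.hom ψ) a)
        (Scheme.ΓSpecIso_inv_naturality (CommRingCat.ofHom (MulSemiringAction.toRingHom G A g)))).symm
    replace h3 := n.symm.trans h3
    exact (ConcreteCategory.bijective_of_isIso γ.inv).1 (h3.trans (by simp))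
  let e : ↥(ConstAct.inv R A G) →+* ↥P.grpd.invariants :=
    (γ.inv.hom.comp (ConstAct.inv R A G).val.toRingHom).codRestrict P.grpd.invariants hmem
  have he : Function.Bijective e := by
    refine ⟨fun a b h => Subtype.ext ((ConcreteCategory.bijective_of_isIso γ.inv).1 (congrArg Subtype.val h)),
      fun b => ?_⟩
    obtain ⟨a, ha⟩ := (ConcreteCategory.bijective_of_isIso γ.inv).2 b.1
    exact ⟨⟨a, hmem' a (ha ▸ b.2)⟩, Subtype.ext ha⟩
  let iota : Spec (CommRingCat.of P.grpd.invariants) ⟶ (ConstAct.specInv R A G).left :=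
    Spec.map (CommRingCat.ofHom e)
  haveI : IsIso (CommRingCat.ofHom e) := (ConcreteCategory.isIso_iff_bijective _).2 he
  haveI : IsIso iota := inferInstanceAs (IsIso (Spec.map _))
  have hι : P.grpd.toQuot ≫ iota = (ConstAct.quot R A G).left := by
    change ((Spec (CommRingCat.of A)).toSpecΓ ≫ Spec.map _) ≫ Spec.map _ = Spec.map _
    rw [← SpecMap_ΓSpecIso_hom, ← Spec.map_comp, ← Spec.map_comp]
    congr 1
    refine CommRingCat.hom_ext (RingHom.ext fun a => ?_)
    change γ.hom (γ.inv (a : A)) = (a : A)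
    rw [← ConcreteCategory.comp_apply, Iso.inv_hom_id]
    rfl
  let K : Groth.L24.CoarseQuot.Piece P (ConstAct.quot R A G) :=
    { G := P.grpd
      affine := inferInstance
      finite := h₁
      flat := h₂
      lfp := h₃
      j := 𝟙 _
      jR := 𝟙 _
      src := by simp; rfl
      tgt := by simp; rfl
      ι := iota
      sq := IsPullback.of_vert_isIso ⟨by simpa using hι⟩ }
  have hrel := Groth.Agent.S1878.result _ P.grpd
  have hι' : Function.Bijective iota := (Scheme.homeoOfIso (asIso iota)).bijective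
  haveI : Algebra.IsInvariant ↥(ConstAct.inv R A G) A G := ⟨fun b hb => ⟨⟨b, hb⟩, rfl⟩⟩
  let D : Groth.L24.CoarseQuot.Data P :=
    { Y := ConstAct.specInv R A G
      q := ConstAct.quot R A G
      inv := hinv
      isIntegral := by
        change IsIntegralHom (Spec.map _)
        rw [IsIntegralHom.SpecMap_iff]
        exact fun a => Algebra.IsInvariant.isIntegral ↥(ConstAct.inv R A G) A G |>.isIntegral a
      surjective := ⟨by
        rw [← hι]; exact hι'.2.comp hrel.1.1⟩
      rel := fun a b => by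
        rw [← hι, Scheme.Hom.comp_apply, Scheme.Hom.comp_apply, hι'.1.eq_iff]
        refine ⟨fun h => ?_, fun ⟨r, hr₁, hr₂⟩ => ((hrel.1.2 b a).2 ⟨r, hr₂, hr₁⟩).symm⟩
        obtain ⟨r, hr₁, hr₂⟩ := (hrel.1.2 b a).1 h.symm
        exact ⟨r, hr₂, hr₁⟩
      pieces := fun y => ⟨K, inferInstanceAs (IsOpenImmersion iota), hι'.2 y⟩ }
  have hchart := fun B => Groth.L24.ChartDesc.exists_chart (chartX R A G) (hg R A G) hfl hlfp hcs B
  have e : π = D.proj (hcov R A G) := Groth.L24.ChartDesc.rest_injective (hcov R A G)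
    ((rest_π π hπ).trans (Groth.L24.ChartDesc.rest_desc (hg R A G) (hcov R A G) D.inv_q).symm)
  rw [e]
  exact ⟨D.isUnifCatModuli (hc := hcov R A G), D.geomPtBij (hcov R A G) hchart,
    D.univHomeo (hcov R A G) hst hcs hchart⟩

end Noeth

end Groth.L11.ConstQuot
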