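import Groth.Prelude.Def_ConstAct
import Mathlib.RingTheory.Invariant.Basic
import Mathlib.RingTheory.FiniteType
import Mathlib.FieldTheory.IsAlgClosed.Basic
import Mathlib.RingTheory.Ideal.GoingUp
import Mathlib.Algebra.Polynomial.GroupRingAction

/-!
# Geometric points of the quotient of an affine scheme by a finite group
-/

set_option autoImplicit false

universe v u

noncomputable section

namespace Groth.L11.ConstQuot

open Polynomial

variable {R : Type u} [CommRing R] {A : Type u} [CommRing A] [Algebra R A]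
  {G : Type v} [Group G] [Finite G] [MulSemiringAction G A] [SMulCommClass G R A]
  {Ω : Type u} [Field Ω] [Algebra R Ω]

/-- A point of the invariants extends. -/
theorem exists_extend_pt [IsAlgClosed Ω] (y : ↥(ConstAct.inv R A G) →ₐ[R] Ω) :
    ∃ x : A →ₐ[R] Ω, x.comp (ConstAct.inv R A G).val = y := by
  let B := ↥(ConstAct.inv R A G)
  haveI : Algebra.IsInvariant B A G := ⟨fun b hb => ⟨⟨b, hb⟩, rfl⟩⟩
  haveI : Algebra.IsIntegral B A := Algebra.IsInvariant.isIntegral B A G
  let p : Ideal B := RingHom.ker y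
  haveI : p.IsPrime := RingHom.ker_isPrime y
  obtain ⟨Q, -, hQ, hQp⟩ := Ideal.exists_ideal_over_prime_of_isIntegral p (⊥ : Ideal A) (fun b hb => by
    rw [show b = 0 from Subtype.ext (Ideal.mem_bot.1 (Ideal.mem_comap.1 hb))]
    exact p.zero_mem)
  haveI : Q.LiesOver p := ⟨hQp.symm⟩
  letI : Algebra (B ⧸ p) Ω := (Ideal.Quotient.lift p y.toRingHom fun a ha => ha).toAlgebra
  have hinj : Function.Injective (algebraMap (B ⧸ p) Ω) := RingHom.kerLift_injective y.toRingHom
  haveI : FaithfulSMul (B ⧸ p) Ω := (faithfulSMul_iff_algebraMap_injective _ _).2 hinj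
  haveI : Algebra.IsAlgebraic (B ⧸ p) (A ⧸ Q) := inferInstance
  let l : A ⧸ Q →ₐ[B ⧸ p] Ω := IsAlgClosed.lift
  have hl : ∀ b : B, l (Ideal.Quotient.mk Q (b : A)) = y b := fun b => l.commutes (Ideal.Quotient.mk p b)
  exact ⟨{ toRingHom := l.toRingHom.comp (Ideal.Quotient.mk Q)
           commutes' := fun r => (hl (algebraMap R B r)).trans (y.commutes r) }, AlgHom.ext hl⟩

/-- Two points with the same restriction to the invariants differ by a group element. -/
theorem exists_smul_pt [Algebra.FiniteType R A] {x x' : A →ₐ[R] Ω}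
    (h : x.comp (ConstAct.inv R A G).val = x'.comp (ConstAct.inv R A G).val) :
    ∃ g : G, x' = x.comp (MulSemiringAction.toAlgEquiv R A g : A →ₐ[R] A) := by
  cases nonempty_fintype G
  obtain ⟨s, hs⟩ := (Algebra.FiniteType.out : (⊤ : Subalgebra R A).FG)
  let e := s.equivFin
  let f : A[X] := ∑ i : Fin s.card, monomial (i : ℕ) (e.symm i : A)
  let φ := mapRingHom x.toRingHom
  let φ' := mapRingHom x'.toRingHom
  have hc : (MulSemiringAction.charpoly G f).map φ = (MulSemiringAction.charpoly G f).map φ' := by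
    ext n k
    simp only [Polynomial.coeff_map, φ, φ', coe_mapRingHom]
    have hm : ((MulSemiringAction.charpoly G f).coeff n).coeff k ∈ ConstAct.inv R A G := fun g => by
      rw [← Polynomial.coeff_smul, MulSemiringAction.smul_coeff_charpoly]
    exact DFunLike.congr_fun h ⟨_, hm⟩
  have h0 : ∏ g : G, (φ' f - φ (g • f)) = 0 := by
    have := congrArg (Polynomial.eval (φ' f)) hc
    rw [Polynomial.eval_map_apply, MulSemiringAction.eval_charpoly, map_zero, MulSemiringAction.charpoly_eq,
      Polynomial.map_prod, Polynomial.eval_prod] at this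
    simpa using this
  obtain ⟨g, -, hg⟩ := Finset.prod_eq_zero_iff.1 h0
  refine ⟨g, AlgHom.ext_of_adjoin_eq_top hs fun a ha => ?_⟩
  have hf : f.coeff (e ⟨a, ha⟩ : ℕ) = a := by
    simp [f, Polynomial.finsetSum_coeff, Polynomial.coeff_monomial, Fin.val_inj]
  have := congrArg (fun q => Polynomial.coeff q (e ⟨a, ha⟩ : ℕ)) (sub_eq_zero.1 hg)
  simp only [φ, φ', coe_mapRingHom, Polynomial.coeff_map, Polynomial.coeff_smul, hf] at this
  exact this

end Groth.L11.ConstQuot
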