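import Groth.Prelude.Def_StMod2
import Groth.Agent.L24.CoarseQuot.Data
import Mathlib.AlgebraicGeometry.AffineSpace

/-!
# The functions on a uniform categorical moduli space are the invariant functions
-/

set_option autoImplicit false
set_option linter.style.haveILetI false
set_option backward.isDefEq.respectTransparency false
set_option backward.isDefEq.respectTransparency.types false

universe u

open CategoryTheory CategoryTheory.Limits AlgebraicGeometry Opposite AlgSp

noncomputable section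

namespace Groth.L11.ConstQuot

open Groth.L24.St

variable {S : Scheme.{u}}

variable (S) in
/-- The affine line. -/
abbrev A1 : Over S := Over.mk (AffineSpace PUnit.{u + 1} S ↘ S)

/-- The morphism to the line given by a function. -/
def toA1 {T : Over S} (v : Γ(T.left, ⊤)) : T ⟶ A1 S :=
  Over.homMk (AffineSpace.homOfVector T.hom fun _ => v) (AffineSpace.homOfVector_over _ _)

/-- The function of a morphism to the line. -/
def ofA1 {T : Over S} (k : T ⟶ A1 S) : Γ(T.left, ⊤) := k.left.appTop (AffineSpace.coord S PUnit.unit)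

@[simp] theorem ofA1_toA1 {T : Over S} (v : Γ(T.left, ⊤)) : ofA1 (toA1 v) = v :=
  AffineSpace.homOfVector_appTop_coord _ _ _

theorem ofA1_comp {T T' : Over S} (c : T ⟶ T') (k : T' ⟶ A1 S) : ofA1 (c ≫ k) = c.left.appTop (ofA1 k) := by
  simp [ofA1]

theorem comp_toA1 {T T' : Over S} (c : T ⟶ T') (v : Γ(T'.left, ⊤)) :
    c ≫ toA1 v = toA1 (c.left.appTop v) := by
  apply Over.OverMorphism.ext
  change c.left ≫ AffineSpace.homOfVector T'.hom (fun _ => v) = AffineSpace.homOfVector T.hom _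
  rw [AffineSpace.comp_homOfVector, Over.w c]
  rfl

/-- A map out of a representable sheaf is given by its value at the identity. -/
theorem app_up {M : AlgSp.Sp S} {T V : Over S} (g : (yon S).obj V ⟶ M) (e : T ⟶ V) :
    M.obj.map e.op (g.hom.app (op V) (ULift.up (𝟙 V) : ((yon S).obj V).obj.obj (op V))) =
      g.hom.app (op T) (ULift.up e : ((yon S).obj V).obj.obj (op T)) := by
  refine (NatTrans.naturality_apply g.hom e.op (ULift.up (𝟙 V) : ((yon S).obj V).obj.obj (op V))).symm.trans ?_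
  exact congrArg _ (congrArg ULift.up (Category.comp_id e))

variable {𝒳 : AlgSt.Cat S} {Y : Over S} {π : 𝒳 ⥤ᵇ AlgSt.ofSch Y} (E : AlgSp.EtOver ((yon S).obj Y))

variable (π) in
/-- The base change to an étale chart. -/
abbrev EtFP : AlgSt.Cat S := FibCat.fp (AlgSt.ofSpMap E.obj.hom) π

variable {E} (x : (EtFP π E).obj)

/-- The arrow to the étale chart of an object of the fibre product. -/
def toEta : π.obj x.obj.snd ⟶ StMod.etaOf E :=
  x.obj.iso.inv ≫ (⟨(x.obj.fst.sec : ULift (x.obj.fst.base ⟶ E.obj.left)).down,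
      app_up E.obj.hom (x.obj.fst.sec : ULift (x.obj.fst.base ⟶ E.obj.left)).down⟩ :
      (AlgSt.ofSpMap E.obj.hom).obj x.obj.fst ⟶ StMod.etaOf E)

/-- The identification of the bases. -/
def toBase : x.obj.fst.base ⟶ 𝒳.p.obj x.obj.snd := x.obj.iso.hom.hom ≫ eqToHom (π.w_obj x.obj.snd)

theorem toBase_baseOver :
    toBase x ≫ StMod.baseOver π x.obj.snd (toEta x) = (x.obj.fst.sec : ULift (_ ⟶ E.obj.left)).down := by
  have h : x.obj.iso.hom.hom ≫ x.obj.iso.inv.hom = 𝟙 _ := congrArg (fun m => m.hom) x.obj.iso.hom_inv_id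
  change (x.obj.iso.hom.hom ≫ eqToHom _) ≫ eqToHom _ ≫ x.obj.iso.inv.hom ≫ _ = _
  rw [Category.assoc, eqToHom_trans_assoc, eqToHom_refl, Category.id_comp, reassoc_of% h]

theorem map_toBase {x y : (EtFP π E).obj} (m : x ⟶ y) :
    m.hom.fst.hom ≫ toBase y = toBase x ≫ 𝒳.p.map m.hom.snd := by
  have h₁ : m.hom.fst.hom ≫ y.obj.iso.hom.hom = x.obj.iso.hom.hom ≫ (π.map m.hom.snd).hom :=
    congrArg (fun q => q.hom) m.hom.w
  haveI := BasedFunctor.preserves_isHomLift π (𝒳.p.map m.hom.snd) m.hom.snd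
  have h₂ : (π.map m.hom.snd).hom =
      eqToHom (π.w_obj _) ≫ 𝒳.p.map m.hom.snd ≫ eqToHom (π.w_obj _).symm :=
    IsHomLift.fac' (AlgSt.ofSch Y).p (𝒳.p.map m.hom.snd) (π.map m.hom.snd)
  rw [toBase, ← Category.assoc, h₁, h₂, toBase]
  simp

theorem map_toEta {x y : (EtFP π E).obj} (m : x ⟶ y) : π.map m.hom.snd ≫ toEta y = toEta x := by
  have h₁ : π.map m.hom.snd ≫ y.obj.iso.inv = x.obj.iso.inv ≫ (AlgSt.ofSpMap E.obj.hom).map m.hom.fst := by
    rw [Iso.eq_inv_comp, ← Category.assoc, Iso.comp_inv_eq]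
    exact m.hom.w.symm
  rw [toEta, toEta, reassoc_of% h₁]
  congr 1
  exact Stk.EltObj.hom_ext (congrArg ULift.down m.hom.fst.map_sec)

variable (E)

variable {E} in
/-- The value at an object of a section of the pushforward. -/
def sectVal (s : (StMod.O 𝒳).RelSect π (StMod.etaOf E)) (x : (EtFP π E).obj) : x.obj.fst.base ⟶ A1 S :=
  toA1 ((toBase x).left.appTop (s.1 x.obj.snd (toEta x)))

variable {E} in
theorem sectVal_nat (s : (StMod.O 𝒳).RelSect π (StMod.etaOf E)) {x y : (EtFP π E).obj} (m : x ⟶ y) :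
    m.hom.fst.hom ≫ sectVal s y = sectVal s x := by
  have hs : (StMod.bmap 𝒳 m.hom.snd).appTop (s.1 y.obj.snd (toEta y)) =
      s.1 x.obj.snd (π.map m.hom.snd ≫ toEta y) := s.2 m.hom.snd (toEta y)
  have hb := congrArg (fun c => c.left.appTop (s.1 y.obj.snd (toEta y))) (map_toBase m)
  simp only [Over.comp_left, Scheme.Hom.comp_appTop, ConcreteCategory.comp_apply] at hb
  refine (comp_toA1 _ _).trans (congrArg toA1 (hb.trans (congrArg _ (hs.trans ?_))))
  exact congrArg (s.1 x.obj.snd) (map_toEta m)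

/-- The functor to the line of a section of the pushforward. -/
def sectFunctor (s : (StMod.O 𝒳).RelSect π (StMod.etaOf E)) : EtFP π E ⥤ᵇ AlgSt.ofSch (A1 S) where
  toFunctor :=
    { obj := fun x => ⟨x.obj.fst.base, ⟨sectVal s x⟩⟩
      map := fun {x y} m => ⟨m.hom.fst.hom, congrArg ULift.up (sectVal_nat s m)⟩
      map_id := fun x => Stk.EltObj.hom_ext rfl
      map_comp := fun f g => Stk.EltObj.hom_ext rfl }
  w := rfl

variable {E}

theorem sec_comp_toA1 {r : Γ(E.obj.left.left, ⊤)} (x : (EtFP π E).obj) :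
    (x.obj.fst.sec : ULift (x.obj.fst.base ⟶ E.obj.left)).down ≫ toA1 r =
      toA1 ((toBase x).left.appTop ((StMod.baseOver π x.obj.snd (toEta x)).left.appTop r)) := by
  rw [← toBase_baseOver x, comp_toA1]
  exact congrArg toA1 (congrArg (fun f => (ConcreteCategory.hom f) r)
    (Scheme.Hom.comp_appTop (toBase x).left (StMod.baseOver π x.obj.snd (toEta x)).left))

/-- Functors to a sheaf with the same values on objects are equal. -/
theorem functor_ext {𝒵 : AlgSt.Cat S} {M : AlgSp.Sp S} {φ ψ : 𝒵 ⥤ᵇ AlgSt.ofSp M}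
    (h : ∀ A, φ.obj A = ψ.obj A) : φ = ψ := by
  refine Groth.L24.QuotMor.basedFunctor_ext fun A => ?_
  have key : ∀ (a b : (AlgSt.ofSp M).obj) (ha : 𝒵.p.obj A = a.base) (hb : 𝒵.p.obj A = b.base), a = b →
      M.obj.map (eqToHom ha).op a.sec = M.obj.map (eqToHom hb).op b.sec := by
    rintro a b ha hb rfl
    rfl
  exact key _ _ _ _ (h A)

theorem unit_injective (hcat : AlgSt.IsCatModuli (FibCat.fpFst (AlgSt.ofSpMap E.obj.hom) π)) :
    Function.Injective (StMod.unitSect π (StMod.etaOf E)) := fun r r' hr => by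
  obtain ⟨h, -, huniq⟩ := hcat.2 _ (AlgSp.IsAlgSpace.yon_obj (A1 S))
    (BasedFunctor.comp (FibCat.fpFst (AlgSt.ofSpMap E.obj.hom) π) (AlgSt.ofSpMap ((yon S).map (toA1 r))))
  have he : BasedFunctor.comp (FibCat.fpFst (AlgSt.ofSpMap E.obj.hom) π) (AlgSt.ofSpMap ((yon S).map (toA1 r'))) =
      BasedFunctor.comp (FibCat.fpFst (AlgSt.ofSpMap E.obj.hom) π) (AlgSt.ofSpMap ((yon S).map (toA1 r))) := by
    refine functor_ext fun x => ?_
    refine congrArg (fun c : x.obj.fst.base ⟶ A1 S =>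
      (⟨x.obj.fst.base, ULift.up c⟩ : (AlgSt.ofSch (A1 S)).obj)) ?_
    refine (sec_comp_toA1 x).trans (Eq.trans ?_ (sec_comp_toA1 x).symm)
    exact congrArg (fun v => toA1 ((toBase x).left.appTop v)) (((StMod.unitSect_val π _ r' _ (toEta x)).symm.trans
      (congrArg (fun q : (StMod.O 𝒳).RelSect π (StMod.etaOf E) => q.1 x.obj.snd (toEta x)) hr.symm)).trans
      (StMod.unitSect_val π _ r _ (toEta x)))
  have h₁ := huniq _ ⟨Iso.refl _⟩
  have h₂ := huniq ((yon S).map (toA1 r')) ⟨eqToIso he⟩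
  simpa using congrArg ofA1 ((yon S).map_injective (h₁.trans h₂.symm))

theorem app_hom {ξ : 𝒳.obj} (α : π.obj ξ ⟶ StMod.etaOf E) :
    E.obj.hom.hom.app (op (π.obj ξ).base)
      (ULift.up α.hom : ((yon S).obj E.obj.left).obj.obj (op (π.obj ξ).base)) = (π.obj ξ).sec :=
  (app_up E.obj.hom α.hom).symm.trans α.map_sec

variable (E) in
/-- The object of the fibre product of an object with an arrow to the étale chart. -/
def objOf {ξ : 𝒳.obj} (α : π.obj ξ ⟶ StMod.etaOf E) : (EtFP π E).obj :=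
  fpObj ⟨(π.obj ξ).base, ULift.up α.hom⟩ ξ
    { hom := ⟨𝟙 _, (Functor.map_id_apply _ _ _).trans (app_hom α).symm⟩
      inv := ⟨𝟙 _, (Functor.map_id_apply _ _ _).trans (app_hom α)⟩
      hom_inv_id := Stk.EltObj.hom_ext (Category.id_comp _)
      inv_hom_id := Stk.EltObj.hom_ext (Category.id_comp _) }
    (OverId.of_eq rfl (by simp))

theorem toEta_objOf {ξ : 𝒳.obj} (α : π.obj ξ ⟶ StMod.etaOf E) : toEta (objOf E α) = α :=
  Stk.EltObj.hom_ext (Category.id_comp _)

theorem toBase_objOf {ξ : 𝒳.obj} (α : π.obj ξ ⟶ StMod.etaOf E) :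
    eqToHom (π.w_obj ξ).symm ≫ toBase (objOf E α) = 𝟙 _ := by
  change eqToHom _ ≫ (𝟙 _ ≫ eqToHom _) = _
  rw [Category.id_comp, eqToHom_trans, eqToHom_refl]

theorem unit_surjective (hcat : AlgSt.IsCatModuli (FibCat.fpFst (AlgSt.ofSpMap E.obj.hom) π)) :
    Function.Surjective (StMod.unitSect π (StMod.etaOf E)) := fun s => by
  obtain ⟨h, ⟨i⟩, -⟩ := hcat.2 _ (AlgSp.IsAlgSpace.yon_obj (A1 S)) (sectFunctor E s)
  obtain ⟨k, rfl⟩ := (yon S).map_surjective h
  refine ⟨ofA1 k, StMod.Mod.RelSect.ext _ _ _ fun ξ α => ?_⟩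
  have e' : (⟨(π.obj ξ).base, ULift.up (α.hom ≫ k)⟩ : (AlgSt.ofSch (A1 S)).obj) =
      (sectFunctor E s).obj (objOf E α) :=
    congrArg (fun F : EtFP π E ⥤ᵇ AlgSt.ofSch (A1 S) => F.obj (objOf E α)) (Groth.L24.QuotMor.eq_of_iso i)
  injection e' with _ e''
  have e₃ : α.hom ≫ k = toA1 ((toBase (objOf E α)).left.appTop (s.1 ξ α)) :=
    (congrArg ULift.down e'').trans
      (congrArg (fun q => toA1 ((toBase (objOf E α)).left.appTop (s.1 ξ q))) (toEta_objOf α))
  have e₄ := congrArg (fun c : (π.obj ξ).base ⟶ A1 S =>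
    (eqToHom (π.w_obj ξ).symm).left.appTop (ofA1 c)) e₃
  simp only [ofA1_comp, ofA1_toA1] at e₄
  have e₅ := congrArg (fun c => c.left.appTop (s.1 ξ α)) (toBase_objOf α)
  simp only [Over.comp_left, Scheme.Hom.comp_appTop, ConcreteCategory.comp_apply, Over.id_left,
    Scheme.Hom.id_appTop, ConcreteCategory.id_apply] at e₅
  refine Eq.trans ?_ (e₄.trans e₅)
  exact congrArg (fun f => (ConcreteCategory.hom f) (ofA1 k))
    (Scheme.Hom.comp_appTop (eqToHom (π.w_obj ξ).symm).left α.hom.left)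

/-- The functions on a uniform categorical moduli space are the invariant functions. -/
theorem unitIsIso (hu : AlgSt.IsUnifCatModuli π) : StMod.UnitIsIso π := fun E => by
  have hg : AlgSp.LocP @Flat E.obj.hom := Groth.L23.locP_of_repWith Groth.L23.etLocal_flat
    (Groth.L23.repWith_mono (fun φ hφ => Groth.L23.etLocal_flat.etale φ hφ) E.property)
  have hcat := hu.2 _ (AlgSp.IsAlgSpace.yon_obj E.obj.left) _ hg
  exact ⟨unit_injective hcat, unit_surjective hcat⟩

end Groth.L11.ConstQuot
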